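import Groth.Agent.Props.SubIdeal
import Groth.Agent.Props.QApproxMain
import Groth.Agent.Props.SubExt
import Groth.Agent.Omega.Stalks
import Groth.Agent.GenFam.PowerExt
import Groth.Agent.FittLib.Rank

/-!
# The Serre closure of a finitely presented module

A class of quasi-coherent modules closed under extensions, subobjects, quotients and direct sums containing
a finitely presented `F` contains every quasi-coherent module supported in the support of `F`.
-/

set_option autoImplicit false
set_option linter.style.haveILetI false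

universe u

open CategoryTheory CategoryTheory.Limits AlgebraicGeometry TopologicalSpace Opposite

noncomputable section

namespace Groth.Agent.SerreClosure

open Groth.Agent.Props Groth.Agent.PullStalk.Sky Groth.Agent.PullStalk.Exact Groth.Agent.Omega.Stalks
  Groth.Agent.QCoh Groth.Agent.Props.SubMod Groth.Agent.Props.SubSheaf

variable {X : Scheme.{u}}

/-- A Serre class of quasi-coherent modules closed under sums. -/
structure Closed (P : ObjectProperty X.Modules) : Prop where
  serre : ∀ S : ShortComplex X.Modules, S.ShortExact → Coh.IsQCoh S.X₁ → Coh.IsQCoh S.X₂ →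
    Coh.IsQCoh S.X₃ → (P S.X₂ ↔ P S.X₁ ∧ P S.X₃)
  sum : ∀ (ι : Type u) (M : ι → X.Modules), (∀ i, Coh.IsQCoh (M i)) → (∀ i, P (M i)) → P (∐ M)

variable {P : ObjectProperty X.Modules} (hP : Closed P)

include hP

theorem Closed.of_mono {A B : X.Modules} (i : A ⟶ B) [Mono i] [A.IsQuasicoherent] [B.IsQuasicoherent]
    (h : P B) : P A :=
  ((hP.serre (ShortComplex.mk i (cokernel.π i) (cokernel.condition i))
    { exact := ShortComplex.exact_of_g_is_cokernel _ (cokernelIsCokernel i) }
    inferInstance inferInstance inferInstance).1 h).1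

theorem Closed.of_epi {A B : X.Modules} (p : A ⟶ B) [Epi p] [A.IsQuasicoherent] [B.IsQuasicoherent]
    (h : P A) : P B := by
  haveI := isQuasicoherent_kernel p
  exact ((hP.serre (ShortComplex.mk (kernel.ι p) p (kernel.condition p))
    { exact := ShortComplex.exact_of_f_is_kernel _ (kernelIsKernel p) }
    inferInstance inferInstance inferInstance).1 h).2

theorem Closed.of_kernel {A B : X.Modules} (p : A ⟶ B) [A.IsQuasicoherent] [B.IsQuasicoherent]
    (h₁ : P (kernel p)) (h₂ : P (Abelian.image p)) : P A := by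
  haveI := isQuasicoherent_kernel p
  haveI : (Abelian.image p).IsQuasicoherent := isQuasicoherent_kernel (cokernel.π p)
  haveI : Mono (kernel.ι (Abelian.factorThruImage p)) := inferInstance
  have hk : kernel.ι p ≫ Abelian.factorThruImage p = 0 := by
    rw [← cancel_mono (Abelian.image.ι p), Category.assoc, Abelian.image.fac, kernel.condition, zero_comp]
  refine (hP.serre (ShortComplex.mk (kernel.ι p) (Abelian.factorThruImage p) hk)
    { exact := ShortComplex.exact_of_f_is_kernel _ (KernelFork.IsLimit.ofι _ _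
        (fun g hg => kernel.lift p g (by rw [← Abelian.image.fac p, ← Category.assoc, hg, zero_comp]))
        (fun g hg => kernel.lift_ι _ _ _)
        (fun g hg m hm => by rw [← cancel_mono (kernel.ι p), hm, kernel.lift_ι])) }
    inferInstance inferInstance inferInstance).2 ⟨h₁, h₂⟩

omit hP in
/-- A morphism vanishing on the sections over affine opens is zero. -/
theorem hom_eq_zero {A B : X.Modules} (f : A ⟶ B)
    (h : ∀ W : X.Opens, IsAffineOpen W → ∀ a : Γ(A, W), f.app W a = 0) : f = 0 := by
  refine hom_ext_stalk fun x => LinearMap.ext fun t => ?_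
  obtain ⟨V, hxV, a, rfl⟩ := exists_germM_eq A x t
  obtain ⟨W, hW, hxW, hWV⟩ := exists_isAffineOpen_mem_and_subset hxV
  rw [stalkLin_zero, stalkLin_germ,
    ← ExtFilt.Stalkwise.germM_res' B (show W ≤ V from hWV) x hxW, ← app_res, h W hW]
  exact map_zero (B.presheaf.germ W x hxW).hom

omit hP in
theorem isZero_of_stalks {E : X.Modules} (h : ∀ x : X, Subsingleton (E.presheaf.stalk x)) :
    IsZero E :=
  (IsZero.iff_id_eq_zero E).2 (hom_ext_stalk fun x => LinearMap.ext fun _ => (h x).elim _ _)

omit hP in
/-- Sections over an affine open with zero germs at the points where `F` has zero stalk are killed by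
a power of the annihilator of `F`. -/
theorem exists_pow_annihilator_smul {F E : X.Modules} [F.IsQuasicoherent] [E.IsQuasicoherent]
    {U : X.Opens} (hU : IsAffineOpen U) [Module.FinitePresentation Γ(X, U) Γ(F, U)]
    (hsupp : CohB1.support E ⊆ CohB1.support F) (m : Γ(E, U)) :
    ∃ k : ℕ, ∀ a ∈ Module.annihilator Γ(X, U) Γ(F, U) ^ k, a • m = 0 := by
  classical
  obtain ⟨n, x, hx⟩ := Module.Finite.exists_fin (R := Γ(X, U)) (M := Γ(F, U))
  let J := Fitt.ideal Γ(X, U) Γ(F, U) 0
  have hJfg : J.FG := FittLib.ideal_eq_G_rel 0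
  have hJle : J ≤ Module.annihilator Γ(X, U) Γ(F, U) := FittLib.ideal_zero_le_annihilator
  have hpow : Module.annihilator Γ(X, U) Γ(F, U) ^ n ≤ J := by
    rw [Submodule.pow_eq_span_pow_set, Submodule.span_le]
    intro a ha
    obtain ⟨f, rfl⟩ := Set.mem_pow.1 ha
    rw [List.prod_ofFn, SetLike.mem_coe, show J = FittLib.G x 0 from FittLib.ideal_eq_G x hx 0,
      ← Matrix.det_diagonal]
    refine FittLib.det_mem_G_of_card x 0 _ ∅ le_rfl fun i _ => ?_
    rw [Finset.sum_eq_single i (fun j _ hj => by rw [Matrix.diagonal_apply_ne _ hj.symm, zero_smul])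
      (fun h => absurd (Finset.mem_univ i) h), Matrix.diagonal_apply_eq]
    exact Module.mem_annihilator.1 (f i).2 (x i)
  have hrad : J ≤ Ideal.radical (LinearMap.ker (LinearMap.toSpanSingleton Γ(X, U) Γ(E, U) m)) := by
    intro f hf
    have h0 : res E (X.basicOpen_le f) m = 0 := by
      refine ExtFilt.Stalkwise.sec_ext fun y hy => ?_
      have hyU : y ∈ U := X.basicOpen_le f hy
      have hzero : ∀ t : F.presheaf.stalk y, t = 0 := by
        intro t
        have ht := (GenFam.span_germ_eq_top (F := F) hU hx hyU).ge (Submodule.mem_top (x := t))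
        have hgen : ∀ j, germM F U y hyU (x j) = 0 := fun j => by
          have h1 : X.presheaf.germ U y hyU f • germM F U y hyU (x j) = 0 := by
            rw [← germM_smul, Module.mem_annihilator.1 (hJle hf) (x j)]
            exact map_zero (F.presheaf.germ U y hyU).hom
          exact ((X.mem_basicOpen f y hyU).1 hy).smul_eq_zero.1 h1
        have hle : Submodule.span (X.presheaf.stalk y) (Set.range fun j => germM F U y hyU (x j)) ≤ ⊥ :=
          Submodule.span_le.2 (by
            rintro _ ⟨j, rfl⟩
            exact hgen j)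
        exact (Submodule.mem_bot _).1 (hle ht)
      have hE : Subsingleton (E.presheaf.stalk y) := by
        by_contra h
        exact hsupp h ⟨fun a b => (hzero a).trans (hzero b).symm⟩
      exact hE.elim _ _
    obtain ⟨e, he⟩ := (isLocalizingAt E hU f).eq_zero m h0
    exact ⟨e, by simpa using he⟩
  obtain ⟨K, hK⟩ := Ideal.exists_pow_le_of_le_radical_of_fg hrad hJfg
  refine ⟨n * K, fun a ha => ?_⟩
  rw [pow_mul] at ha
  simpa using hK (Ideal.pow_right_mono hpow K ha)

omit hP in
theorem exists_smul_ne_zero_killed {R M : Type*} [CommRing R] [AddCommGroup M] [Module R M] (I : Ideal R) :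
    ∀ (k : ℕ) (m : M), m ≠ 0 → (∀ a ∈ I ^ k, a • m = 0) →
      ∃ c : R, c • m ≠ 0 ∧ ∀ b ∈ I, b • c • m = 0
  | 0, m, hm, h => absurd ((one_smul R m).symm.trans (h 1 (by simp))) hm
  | k + 1, m, hm, h => by
    by_cases h' : ∀ b ∈ I, b • m = 0
    · exact ⟨1, by rwa [one_smul], fun b hb => by rw [one_smul]; exact h' b hb⟩
    · push Not at h'
      obtain ⟨b, hb, hbm⟩ := h'
      obtain ⟨c, hc, hc'⟩ := exists_smul_ne_zero_killed I k (b • m) hbm fun a ha => by
        rw [smul_smul]
        exact h _ (pow_succ I k ▸ Ideal.mul_mem_mul ha hb)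
      exact ⟨c * b, by rwa [mul_smul], fun b' hb' => by rw [mul_smul]; exact hc' b' hb'⟩

omit hP in
/-- A nonzero element killed by the annihilator of a module has a nonzero multiple killed by the
annihilator of one generator. -/
theorem exists_smul_killed_gen {R M N : Type*} [CommRing R] [AddCommGroup M] [Module R M]
    [AddCommGroup N] [Module R N] {n : ℕ} (x : Fin n → N) (hx : Submodule.span R (Set.range x) = ⊤)
    (m : M) (hm : m ≠ 0) (h : ∀ b ∈ Module.annihilator R N, b • m = 0) :
    ∃ (c : R) (j : Fin n), c • m ≠ 0 ∧ ∀ b : R, b • x j = 0 → b • c • m = 0 := by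
  classical
  have key : ∀ (t : Finset (Fin n)) (m : M), m ≠ 0 → (∀ b : R, (∀ j ∈ t, b • x j = 0) → b • m = 0) →
      ∃ (c : R) (j : Fin n), c • m ≠ 0 ∧ ∀ b : R, b • x j = 0 → b • c • m = 0 := by
    intro t
    induction t using Finset.induction with
    | empty => exact fun m hm h => absurd ((one_smul R m).symm.trans (h 1 (by simp))) hm
    | insert j t _ ih =>
      intro m hm h
      by_cases h' : ∀ b : R, b • x j = 0 → b • m = 0
      · exact ⟨1, j, by rwa [one_smul], fun b hb => by rw [one_smul]; exact h' b hb⟩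
      · push Not at h'
        obtain ⟨a, ha, ham⟩ := h'
        obtain ⟨c, i, hc, hc'⟩ := ih (a • m) ham fun b hb => by
          rw [smul_smul]
          refine h _ fun i hi => ?_
          rcases Finset.mem_insert.1 hi with rfl | hi
          · rw [mul_smul, ha, smul_zero]
          · rw [mul_comm, mul_smul, hb i hi, smul_zero]
        exact ⟨c * a, i, by rwa [mul_smul], fun b hb => by rw [mul_smul]; exact hc' b hb⟩
  refine key Finset.univ m hm fun b hb => h b (Module.mem_annihilator.2 fun y => ?_)
  have hy := hx.ge (Submodule.mem_top (x := y))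
  induction hy using Submodule.span_induction with
  | mem y hy => obtain ⟨j, rfl⟩ := hy; exact hb j (Finset.mem_univ j)
  | zero => exact smul_zero b
  | add y z _ _ hy hz => rw [smul_add, hy, hz, add_zero]
  | smul r y _ hy => rw [smul_comm, hy, smul_zero]

variable [CompactSpace X] [QuasiSeparatedSpace X]

/-- A module with no submodule vanishing on the affine open `U`, not zero there, receives a nonzero map
from an object of the class. -/
theorem exists_hom_core {F : X.Modules} [F.IsQuasicoherent] (hF : CohB1.IsFP F) (hPF : P F)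
    {E : X.Modules} [E.IsQuasicoherent] (hsupp : CohB1.support E ⊆ CohB1.support F)
    {U : X.Opens} (hU : IsAffineOpen U)
    (hno : ∀ (K : X.Modules) (i : K ⟶ E), K.IsQuasicoherent → Mono i →
      (∀ x ∈ U, Subsingleton (K.presheaf.stalk x)) → IsZero K)
    {y : X} (hyU : y ∈ U) (hy : ¬ Subsingleton (E.presheaf.stalk y)) :
    ∃ (G : X.Modules) (f : G ⟶ E), G.IsQuasicoherent ∧ P G ∧ f ≠ 0 := by
  classical
  haveI := (QFP.isFP_iff F).mp hF U hU
  obtain ⟨m₀, hm₀⟩ : ∃ m : Γ(E, U), m ≠ 0 := by
    by_contra h
    push Not at h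
    refine hy ⟨fun a b => ?_⟩
    have hall : ∀ t : E.presheaf.stalk y, t = 0 := fun t => by
      letI := QStalk.moduleSections E hyU
      haveI := QStalk.isLocalizedModule_germLin E hyU hU
      obtain ⟨⟨v, c⟩, hc⟩ := IsLocalizedModule.surj (hU.primeIdealOf ⟨y, hyU⟩).asIdeal.primeCompl
        (QStalk.germLin E hyU) t
      rw [h v, map_zero] at hc
      exact IsLocalizedModule.smul_injective (QStalk.germLin E hyU) c (hc.trans (smul_zero c).symm)
    exact (hall a).trans (hall b).symm
  obtain ⟨k, hk⟩ := exists_pow_annihilator_smul hU hsupp m₀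
  obtain ⟨c, hc, hc'⟩ := exists_smul_ne_zero_killed _ k m₀ hm₀ hk
  obtain ⟨n, x, hx⟩ := Module.Finite.exists_fin (R := Γ(X, U)) (M := Γ(F, U))
  obtain ⟨c', j, hne, hrel⟩ := exists_smul_killed_gen x hx _ hc hc'
  let m := c' • c • m₀
  haveI := SubExt.isQuasicoherent_biprod F E
  let σ : Γ(F ⊞ E, U) := (biprod.inl : F ⟶ F ⊞ E).app U (x j) + (biprod.inr : E ⟶ F ⊞ E).app U m
  have hfst : (biprod.fst : F ⊞ E ⟶ F).app U σ = x j := by
    simp only [σ, map_add, ← ConcreteCategory.comp_apply, ← Scheme.Modules.Hom.comp_app, biprod.inl_fst,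
      biprod.inr_fst]
    exact add_zero _
  have hsnd : (biprod.snd : F ⊞ E ⟶ E).app U σ = m := by
    simp only [σ, map_add, ← ConcreteCategory.comp_apply, ← Scheme.Modules.Hom.comp_app, biprod.inl_snd,
      biprod.inr_snd]
    exact zero_add _
  let S₀ : StalkSub (F ⊞ E) := fun y =>
    if hy : y ∈ U then spanGerm ({σ} : Set Γ(F ⊞ E, U)) y hy else ⊤
  have hS₀ : FTOn S₀ U := fun y hy => ⟨U, hU, hy, le_rfl, {σ}, fun z hz => by
    simp [S₀, dif_pos hz]⟩
  obtain ⟨S, hS, hSU, -⟩ := exists_global hU.isCompact hS₀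
  haveI := isQuasicoherent_sub hS
  let ι := incl S
  haveI : Mono (ι ≫ (biprod.fst : F ⊞ E ⟶ F)) := by
    let p : sub S ⟶ F := ι ≫ biprod.fst
    show Mono p
    haveI := isQuasicoherent_kernel p
    let i : kernel p ⟶ E := kernel.ι p ≫ ι ≫ biprod.snd
    haveI : Mono i := Preadditive.mono_of_cancel_zero _ fun {Z} g hg => by
      rw [← cancel_mono (kernel.ι p), ← cancel_mono ι, zero_comp, zero_comp]
      refine biprod.hom_ext _ _ ?_ ?_
      · simp only [Category.assoc, zero_comp]
        show g ≫ kernel.ι p ≫ p = 0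
        rw [kernel.condition, comp_zero]
      · simp only [Category.assoc, zero_comp]
        exact hg
    refine Preadditive.mono_of_kernel_zero ((hno _ i inferInstance inferInstance fun z hz => ?_).eq_of_src _ _)
    refine ⟨fun a b => ?_⟩
    have hall : ∀ t, stalkLin i z t = 0 := by
      intro t
      let w := stalkLin (kernel.ι p) z t
      have hw : stalkLin ι z w ∈ spanGerm ({σ} : Set Γ(F ⊞ E, U)) z hz := by
        obtain ⟨V, hzV, v, hv⟩ := exists_germM_eq (sub S) z w
        rw [← hv, stalkLin_germ]
        have := (mem_range_incl S _).mp ⟨v, rfl⟩ z hzV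
        rw [hSU z hz] at this
        simpa [S₀, dif_pos hz] using this
      rw [spanGerm, Set.image_singleton, Submodule.mem_span_singleton] at hw
      obtain ⟨b, hb⟩ := hw
      have h1 : b • germM F U z hz (x j) = 0 := by
        rw [← hfst, ← stalkLin_germ, ← map_smul, hb, ← stalkLin_comp]
        show stalkLin p z (stalkLin (kernel.ι p) z t) = 0
        rw [← stalkLin_comp, kernel.condition, stalkLin_zero]
      have h2 : b • germM E U z hz m = 0 := by
        have := GenFam.relation_stalk (F := F) (M := E) hU (q := fun _ : Fin 1 => x j)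
          (fun _ => m) (fun c hc => by
            rw [Fin.sum_univ_one] at hc ⊢
            exact hrel _ hc) hz (fun _ => b) (by rwa [Fin.sum_univ_one])
        rwa [Fin.sum_univ_one] at this
      rw [stalkLin_comp, stalkLin_comp]
      show stalkLin (biprod.snd : F ⊞ E ⟶ E) z (stalkLin ι z w) = 0
      rw [← hb, map_smul, stalkLin_germ, hsnd, h2]
    exact stalkLin_injective_of_mono i z ((hall a).trans (hall b).symm)
  refine ⟨sub S, ι ≫ biprod.snd, inferInstance, hP.of_mono (ι ≫ biprod.fst) hPF, fun h0 => ?_⟩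
  obtain ⟨v, hv⟩ := (mem_range_incl S σ).mpr fun z hz => by
    rw [hSU z hz]
    simp only [S₀, dif_pos hz]
    exact Submodule.subset_span ⟨σ, rfl, rfl⟩
  refine hne ?_
  show m = 0
  rw [← hsnd, ← hv, ← ConcreteCategory.comp_apply, ← Scheme.Modules.Hom.comp_app]
  show (ι ≫ biprod.snd).app U v = 0
  rw [h0]
  rfl

/-- A nonzero module supported in the support of `F` receives a nonzero map from an object of the class. -/
theorem exists_hom {F : X.Modules} [F.IsQuasicoherent] (hF : CohB1.IsFP F) (hPF : P F)
    (E : X.Modules) [E.IsQuasicoherent] (hsupp : CohB1.support E ⊆ CohB1.support F) (hE : ¬ IsZero E) :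
    ∃ (G : X.Modules) (f : G ⟶ E), G.IsQuasicoherent ∧ P G ∧ f ≠ 0 := by
  classical
  obtain ⟨σ, hσ⟩ := QApproxMain.exists_affine_finite_cover X
  suffices key : ∀ (τ : Finset X.affineOpens) (E : X.Modules), E.IsQuasicoherent →
      CohB1.support E ⊆ CohB1.support F → ¬ IsZero E →
      (∀ W ∈ σ, W ∉ τ → ∀ x ∈ W.1, Subsingleton (E.presheaf.stalk x)) →
      ∃ (G : X.Modules) (f : G ⟶ E), G.IsQuasicoherent ∧ P G ∧ f ≠ 0 from
    key σ E ‹_› hsupp hE fun W hW hW' => absurd hW hW'
  intro τ
  induction τ using Finset.induction with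
  | empty =>
    intro E _ _ hE hvan
    exact absurd (isZero_of_stalks fun x => by
      obtain ⟨W, hW, hx⟩ := hσ x
      exact hvan W hW (Finset.notMem_empty W) x hx) hE
  | insert U τ _ ih =>
    intro E hEq hsupp hE hvan
    haveI := hEq
    by_cases hsub : ∃ (K : X.Modules) (i : K ⟶ E), K.IsQuasicoherent ∧ Mono i ∧
        (∀ x ∈ U.1, Subsingleton (K.presheaf.stalk x)) ∧ ¬ IsZero K
    · obtain ⟨K, i, hKq, hi, hKU, hK⟩ := hsub
      haveI := hKq
      haveI := hi
      have hinj := stalkLin_injective_of_mono i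
      obtain ⟨G, f, hG, hPG, hf⟩ := ih K hKq (fun x hx => hsupp fun h => hx ⟨fun a b => hinj x (h.elim _ _)⟩)
        hK fun W hW hWτ x hx => by
          by_cases hWU : W = U
          · exact hKU x (hWU ▸ hx)
          · exact ⟨fun a b => hinj x ((hvan W hW (by simp [hWτ, hWU]) x hx).elim _ _)⟩
      exact ⟨G, f ≫ i, hG, hPG, fun h => hf (by rw [← cancel_mono i, h, zero_comp])⟩
    · push Not at hsub
      by_cases hEU : ∀ x ∈ U.1, Subsingleton (E.presheaf.stalk x)
      · exact absurd (hsub E (𝟙 E) hEq inferInstance hEU) hE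
      · push Not at hEU
        obtain ⟨y, hy, hy'⟩ := hEU
        exact exists_hom_core hP hF hPF hsupp U.2 hsub hy (not_subsingleton_iff_nontrivial.2 hy')

/-- The main theorem. -/
theorem mem_of_support_subset {F : X.Modules} [F.IsQuasicoherent] (hF : CohB1.IsFP F) (hPF : P F)
    (E : X.Modules) [E.IsQuasicoherent] (hsupp : CohB1.support E ⊆ CohB1.support F) : P E := by
  classical
  let T : Type u := {w : (W : X.affineOpens) × Γ(E, W.1) // ∃ (G : X.Modules) (i : G ⟶ E),
    G.IsQuasicoherent ∧ P G ∧ Mono i ∧ w.2 ∈ Set.range (i.app w.1.1)}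
  choose G i hGq hPG hi hmem using fun w : T => w.2
  haveI := hGq
  let d : ∐ G ⟶ E := Sigma.desc i
  let c := cokernel.π d
  haveI : (Abelian.image d).IsQuasicoherent := isQuasicoherent_kernel c
  haveI : (∐ G).IsQuasicoherent := isQuasicoherent_coproduct G
  have hI : P (Abelian.image d) := hP.of_epi (Abelian.factorThruImage d) (hP.sum T G hGq hPG)
  have hC : IsZero (cokernel d) := by
    by_contra hne
    have hsuppC : CohB1.support (cokernel d) ⊆ CohB1.support F := fun x hx => hsupp fun h => hx
      ⟨fun a b => by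
        obtain ⟨a, rfl⟩ := stalk_surjective c x a
        obtain ⟨b, rfl⟩ := stalk_surjective c x b
        rw [h.elim a b]⟩
    obtain ⟨G₁, f, hG₁, hPG₁, hf⟩ := exists_hom hP hF hPF (cokernel d) hsuppC hne
    haveI := hG₁
    let q := cokernel.π f
    haveI := isQuasicoherent_kernel (c ≫ q)
    let j := kernel.ι (c ≫ q)
    haveI : (Abelian.image f).IsQuasicoherent := isQuasicoherent_kernel q
    let r : kernel (c ≫ q) ⟶ Abelian.image f := kernel.lift q (j ≫ c) (by rw [Category.assoc]; exact kernel.condition _)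
    haveI := isQuasicoherent_kernel r
    haveI : (Abelian.image r).IsQuasicoherent := isQuasicoherent_kernel (cokernel.π r)
    have hH : P (kernel (c ≫ q)) := by
      refine hP.of_kernel r ?_ (hP.of_mono (Abelian.image.ι r)
        (hP.of_epi (Abelian.factorThruImage f) hPG₁))
      have hl : (kernel.ι r ≫ j) ≫ c = 0 := by
        have h := congrArg (· ≫ kernel.ι q) (kernel.condition r)
        simp only [Category.assoc, zero_comp, r, kernel.lift_ι] at h
        rw [Category.assoc]
        exact h
      haveI : Mono (kernel.lift c (kernel.ι r ≫ j) hl : kernel r ⟶ Abelian.image d) :=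
        mono_of_mono_fac (kernel.lift_ι c _ hl)
      exact hP.of_mono (kernel.lift c (kernel.ι r ≫ j) hl : kernel r ⟶ Abelian.image d) hI
    have hjc : j ≫ c = 0 := hom_eq_zero _ fun W hW a => by
      let w : T := ⟨⟨⟨W, hW⟩, j.app W a⟩, kernel (c ≫ q), j, inferInstance, hH, inferInstance, ⟨a, rfl⟩⟩
      obtain ⟨b, hb⟩ := hmem w
      have h0 : i w ≫ c = 0 := by
        rw [show i w = Sigma.ι G w ≫ d from (Sigma.ι_desc _ _).symm, Category.assoc, cokernel.condition, comp_zero]
      show c.app W (j.app W a) = 0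
      rw [show j.app W a = (i w).app W b from hb.symm, ← ConcreteCategory.comp_apply,
        ← Scheme.Modules.Hom.comp_app, h0]
      rfl
    refine hf ?_
    have hpb : pullback.fst c (kernel.ι q) ≫ c ≫ q = 0 := by
      rw [← Category.assoc, pullback.condition, Category.assoc, kernel.condition, comp_zero]
    have h1 : pullback.snd c (kernel.ι q) ≫ kernel.ι q = 0 := by
      rw [← pullback.condition, ← kernel.lift_ι (c ≫ q) _ hpb, Category.assoc]
      show _ ≫ j ≫ c = 0
      rw [hjc, comp_zero]
    rw [← comp_zero (X := pullback c (kernel.ι q)) (f := pullback.snd c (kernel.ι q)), cancel_epi] at h1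
    rw [← kernel.lift_ι q f (cokernel.condition f), h1, comp_zero]
  haveI : IsIso (Abelian.image.ι d) := by
    have h0 : c = 0 := hC.eq_of_tgt _ _
    show IsIso (kernel.ι c)
    exact ⟨kernel.lift c (𝟙 E) (by rw [h0, comp_zero]), by
      rw [← cancel_mono (kernel.ι c), Category.assoc, kernel.lift_ι, Category.comp_id, Category.id_comp],
      kernel.lift_ι _ _ _⟩
  exact hP.of_epi (Abelian.image.ι d) hI

end Groth.Agent.SerreClosure

end
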